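import Groth.Agent.H15Site.HPhEt.Sheaf
import Groth.Agent.H15Site.FppfEt.Apps
import Groth.Agent.S7190
import Groth.Agent.S8976
import Mathlib.CategoryTheory.Adjunction.Restrict

/-!
# The big h and ph sites against the small étale site in degree zero
-/

set_option autoImplicit false
set_option linter.style.haveILetI false
set_option linter.unusedSectionVars false
set_option backward.isDefEq.respectTransparency false
set_option backward.isDefEq.respectTransparency.types false

universe u

open CategoryTheory CategoryTheory.Limits AlgebraicGeometry Opposite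
open scoped Groth.Agent.H18Et

namespace Groth.Agent.H15Site.HPhEt

open Groth.Agent.H15Site.IntDesc (bigSh)

theorem le_ph : Scheme.etaleTopology.{u} ≤ HTop.phTopology.{u} := by
  refine Precoverage.toGrothendieck_mono fun X R hR => ?_
  obtain ⟨E, rfl⟩ := Presieve.exists_eq_preZeroHypercover R
  obtain ⟨hc, he⟩ := (Scheme.ofArrows_mem_precoverage_iff @Etale).1 hR
  refine (HTop.presieve₀_mem_phPrecoverage_iff E).2 (Groth.Agent.S7190.result E
    (fun i => by haveI : Etale (E.f i) := he i; infer_instance)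
    (fun i => by haveI : Etale (E.f i) := he i; infer_instance) fun t => ?_)
  obtain ⟨i, x, hx⟩ := hc t
  exact ⟨i, x, hx⟩

theorem le_h : Scheme.etaleTopology.{u} ≤ HTop.hTopology.{u} := by
  refine Precoverage.toGrothendieck_mono fun X R hR => ?_
  obtain ⟨E, rfl⟩ := Presieve.exists_eq_preZeroHypercover R
  obtain ⟨hc, he⟩ := (Scheme.ofArrows_mem_precoverage_iff @Etale).1 hR
  have hl : ∀ i, LocallyOfFinitePresentation (E.f i) := fun i => by
    haveI : Etale (E.f i) := he i
    infer_instance
  refine (HTop.presieve₀_mem_hPrecoverage_iff E).2 ⟨hl, (Groth.Agent.S8976.result E hl).1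
    (Groth.Agent.S7190.result E (fun i => by haveI : Etale (E.f i) := he i; infer_instance) hl fun t => ?_)⟩
  obtain ⟨i, x, hx⟩ := hc t
  exact ⟨i, x, hx⟩

theorem over_le {J : GrothendieckTopology Scheme.{u}} (h : Scheme.etaleTopology.{u} ≤ J) (S : Scheme.{u}) :
    QuotSh.J Scheme.etalePrecoverage S ≤ J.over S :=
  fun _ _ hR => h _ hR

variable {S : Scheme.{u}} (J : GrothendieckTopology (Over S)) (hle : QuotSh.J Scheme.etalePrecoverage S ≤ J)
  (hsh : ∀ F : EtCoh.Ab S, Presheaf.IsSheaf J (bigSh F).obj)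

/-- A sheaf for a finer topology as a sheaf on the big étale site. -/
noncomputable abbrev epsJ : Sheaf J AddCommGrpCat.{u + 1} ⥤ BigSite.Ab Scheme.etalePrecoverage S where
  obj G := ⟨G.obj, fun A => Presieve.isSheaf_of_le _ hle (G.property A)⟩
  map g := ⟨g.hom⟩

/-- `epsJ` is fully faithful. -/
def epsJFF : (epsJ J hle).FullyFaithful where
  preimage g := ⟨g.hom⟩

/-- `π⁻¹` with values in sheaves for the finer topology. -/
noncomputable def piJ : EtCoh.Ab S ⥤ Sheaf J AddCommGrpCat.{u + 1} where
  obj F := ⟨(bigSh F).obj, hsh F⟩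
  map g := ⟨((BigSite.piEtPull Scheme.etalePrecoverage S).map g).hom⟩
  map_id F := CategoryTheory.Sheaf.hom_ext
    (congrArg (fun k => k.hom) ((BigSite.piEtPull Scheme.etalePrecoverage S).map_id F))
  map_comp g h := CategoryTheory.Sheaf.hom_ext
    (congrArg (fun k => k.hom) ((BigSite.piEtPull Scheme.etalePrecoverage S).map_comp g h))

variable [(EtFppf.a S).IsContinuous S.smallEtaleTopology J]

/-- `π⁻¹ ⊣` restriction to the small étale site. -/
noncomputable def adjJ : piJ J hsh ⊣
    (EtFppf.a S).sheafPushforwardContinuous AddCommGrpCat.{u + 1} S.smallEtaleTopology J :=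
  (BigSite.piEtAdj Scheme.etalePrecoverage S).restrictFullyFaithful (Functor.FullyFaithful.id _)
    (epsJFF J hle)
    (NatIso.ofComponents (fun _ => Iso.refl _) fun _ => (Category.comp_id _).trans (Category.id_comp _).symm)
    (NatIso.ofComponents (fun _ => Iso.refl _) fun _ => (Category.comp_id _).trans (Category.id_comp _).symm)

/-- The inverse image to the finer big site is `π⁻¹`. -/
noncomputable def pullJIso :
    (EtFppf.a S).sheafPullback AddCommGrpCat.{u + 1} S.smallEtaleTopology J ≅ piJ J hsh :=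
  Adjunction.leftAdjointUniq
    ((EtFppf.a S).sheafAdjunctionContinuous AddCommGrpCat.{u + 1} S.smallEtaleTopology J) (adjJ J hle hsh)

include hle hsh in
/-- Sections of the inverse image. -/
theorem nonempty_sections_iso (F : EtCoh.Ab S) {X : Scheme.{u}} (f : X ⟶ S) :
    Nonempty ((((EtFppf.a S).sheafPullback AddCommGrpCat.{u + 1} S.smallEtaleTopology J).obj F).obj.obj
        (op (Over.mk f)) ≅ ((EtCoh.pull f).obj F).obj.obj (op (EtCoh.top X))) := by
  haveI := FppfEt.isIso_τ f F
  exact ⟨((sheafToPresheaf _ _).mapIso ((pullJIso J hle hsh).app F)).app (op (Over.mk f)) ≪≫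
    (bigSh F).obj.mapIso (FppfEt.topIso (Over.mk f)).op ≪≫
    (((sheafToPresheaf _ _).mapIso (asIso (FppfEt.τ f F))).app (op (EtCoh.top X))).symm⟩

theorem nonempty_push_iso {X Y : Scheme.{u}} (f : X ⟶ Y) [IsProper f]
    (JX : GrothendieckTopology (Over X)) (JY : GrothendieckTopology (Over Y))
    (hleX : QuotSh.J Scheme.etalePrecoverage X ≤ JX) (hleY : QuotSh.J Scheme.etalePrecoverage Y ≤ JY)
    (hshX : ∀ F : EtCoh.Ab X, Presheaf.IsSheaf JX (bigSh F).obj)
    (hshY : ∀ F : EtCoh.Ab Y, Presheaf.IsSheaf JY (bigSh F).obj)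
    [(EtFppf.a X).IsContinuous X.smallEtaleTopology JX] [(EtFppf.a Y).IsContinuous Y.smallEtaleTopology JY]
    [(Over.pullback f).IsContinuous JY JX] (F : EtCoh.Ab X) :
    Nonempty (((EtFppf.a Y).sheafPullback AddCommGrpCat.{u + 1} Y.smallEtaleTopology JY).obj
        ((EtCoh.push f).obj F) ≅
      ((Over.pullback f).sheafPushforwardContinuous AddCommGrpCat.{u + 1} JY JX).obj
        (((EtFppf.a X).sheafPullback AddCommGrpCat.{u + 1} X.smallEtaleTopology JX).obj F)) := by
  haveI := FppfEt.isIso_α_of_isProper f F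
  let e : (piJ JY hshY).obj ((EtCoh.push f).obj F) ≅
      ((Over.pullback f).sheafPushforwardContinuous AddCommGrpCat.{u + 1} JY JX).obj ((piJ JX hshX).obj F) :=
    (fullyFaithfulSheafToPresheaf JY AddCommGrpCat.{u + 1}).preimageIso
      ((sheafToPresheaf (QuotSh.J Scheme.etalePrecoverage Y) AddCommGrpCat.{u + 1}).mapIso
        (asIso (FppfEt.α f F)))
  exact ⟨(pullJIso JY hleY hshY).app _ ≪≫ e ≪≫
    ((Over.pullback f).sheafPushforwardContinuous AddCommGrpCat.{u + 1} JY JX).mapIso
      ((pullJIso JX hleX hshX).app F).symm⟩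

end Groth.Agent.H15Site.HPhEt
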