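import Mathlib.CategoryTheory.Sites.SheafOfTypes
import Mathlib.Algebra.Category.Grp.Adjunctions
import Mathlib.Algebra.Category.Grp.Abelian
import Mathlib.CategoryTheory.Preadditive.Injective.Basic
import Mathlib.CategoryTheory.Functor.EpiMono
import Mathlib.CategoryTheory.Adjunction.Whiskering
import Mathlib.CategoryTheory.Limits.Preserves.FunctorCategory

/-!
# Injective presheaves extend compatible families
-/

set_option autoImplicit false
set_option linter.style.haveILetI false
set_option backward.isDefEq.respectTransparency false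
set_option backward.isDefEq.respectTransparency.types false

universe w v u

open CategoryTheory CategoryTheory.Limits Opposite

namespace Groth.Agent.H15Site.HPhEt

variable {C : Type u} [Category.{v} C] (I : Cᵒᵖ ⥤ AddCommGrpCat.{max w v}) [Injective I]

/-- A compatible family of sections of an injective presheaf extends. -/
theorem exists_extension {X : C} {R : Sieve X}
    (x : Presieve.FamilyOfElements (I ⋙ CategoryTheory.forget AddCommGrpCat.{max w v}) R.arrows) (hx : x.Compatible) :
    ∃ t : I.obj (op X), ∀ ⦃Y : C⦄ (g : Y ⟶ X) (hg : R.arrows g), I.map g.op t = x g hg := by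
  let adj := (AddCommGrpCat.adj.{max w v}).whiskerRight Cᵒᵖ
  let α : Sieve.uliftFunctor.{w} R ⟶ I ⋙ CategoryTheory.forget AddCommGrpCat.{max w v} :=
    { app := fun V => ↾fun g => x g.down.1 g.down.2
      naturality := fun V W k => by
        ext g
        exact (Presieve.compatible_iff_sieveCompatible x).1 hx g.down.1 k.unop g.down.2 }
  let i := Sieve.uliftFunctorInclusion.{w} R
  let j := ((Functor.whiskeringRight Cᵒᵖ (Type (max w v)) AddCommGrpCat.{max w v}).obj AddCommGrpCat.free).map i
  haveI : Mono j := by
    haveI : ∀ V, Mono (j.app V) := fun V => by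
      haveI : Mono (i.app V) := inferInstance
      exact inferInstanceAs (Mono (AddCommGrpCat.free.map (i.app V)))
    exact NatTrans.mono_of_mono_app j
  let β := Injective.factorThru ((adj.homEquiv _ I).symm α) j
  let b : uliftYoneda.{w}.obj X ⟶ I ⋙ CategoryTheory.forget AddCommGrpCat.{max w v} := adj.homEquiv _ I β
  have hb : i ≫ b = α := by
    refine ((adj.homEquiv_naturality_left i β).symm.trans ?_)
    exact (congrArg (adj.homEquiv _ I) (Injective.comp_factorThru _ j)).trans ((adj.homEquiv _ I).apply_symm_apply α)
  refine ⟨b.app (op X) ⟨𝟙 X⟩, fun Y g hg => ?_⟩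
  have e := ConcreteCategory.congr_hom (congr_app hb (op Y)) ⟨⟨g, hg⟩⟩
  refine Eq.trans ?_ e
  refine (ConcreteCategory.congr_hom (b.naturality g.op) ⟨𝟙 X⟩).symm.trans ?_
  refine congrArg (b.app (op Y)) ?_
  exact ULift.ext _ _ (Category.comp_id g)

end Groth.Agent.H15Site.HPhEt
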