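import Groth.Agent.H15Site.HPhEt.VanEt
import Groth.Agent.H15Site.HPhEt.Extend
import Groth.Agent.H15Site.HPhEt.Apps

/-!
# Direct images to the étale site from finer topologies of torsion sheaves
-/

set_option autoImplicit false
set_option linter.style.haveILetI false
set_option linter.unusedSectionVars false
set_option backward.isDefEq.respectTransparency false
set_option backward.isDefEq.respectTransparency.types false

universe u

open CategoryTheory CategoryTheory.Limits AlgebraicGeometry Opposite
open scoped Groth.Agent.H18Et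

namespace Groth.Agent.H15Site.HPhEt

open Groth.Agent.H15Site.IntDesc (bigSh)
open Groth.Agent.H15Site.FppfEt (Sections.map_map Sections.map_congr)
open Groth.Agent.H15Site.Shriek (StalkBC)

variable {S : Scheme.{u}}

/-- The morphisms along which descent is tested. -/
structure IsTest (J : GrothendieckTopology (Over S)) {U Y : Over S} (g : Y ⟶ U) : Prop where
  proper : IsProper g.left
  surjective : Surjective g.left
  mem : Sieve.generate (Presieve.singleton g) ∈ J U

variable (J : GrothendieckTopology (Over S)) (hle : QuotSh.J Scheme.etalePrecoverage S ≤ J)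

/-- `J` is generated by étale coverings and test morphisms. -/
def Crit : Prop := ∀ A : BigSite.Ab Scheme.etalePrecoverage S,
  (∀ (U Y : Over S) (g : Y ⟶ U), IsTest J g →
    Presieve.IsSheafFor (A.obj ⋙ forget AddCommGrpCat.{u + 1}) (Presieve.singleton g)) →
      Presheaf.IsSheaf J A.obj

/-- Derived vanishing along every test morphism. -/
def Good (A : BigSite.Ab Scheme.etalePrecoverage S) : Prop :=
  ∀ (U Y : Over S) (g : Y ⟶ U), IsTest J g → ∀ q, IsZero (((vanAt g).rightDerived q).obj A)

theorem good_bigSh (hbc : StalkBC.{u}) (F : EtCoh.Ab S) (hF : EtCoh.IsTorsion F) : Good J (bigSh F) :=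
  fun _ _ g hg q => by
    haveI := hg.proper
    haveI := hg.surjective
    exact isZero_derived_vanAt_rel g hbc F hF q

/-- Sheafification for `J`. -/
noncomputable abbrev LJ : BigSite.Ab Scheme.etalePrecoverage S ⥤ Sheaf J AddCommGrpCat.{u + 1} :=
  sheafToPresheaf _ _ ⋙ presheafToSheaf J AddCommGrpCat.{u + 1}

/-- `LJ ⊣ epsJ`. -/
noncomputable def adjEps : LJ J ⊣ epsJ J hle :=
  Adjunction.mkOfHomEquiv
    { homEquiv := fun P G =>
        ((sheafificationAdjunction J AddCommGrpCat.{u + 1}).homEquiv P.obj G).trans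
          { toFun := fun k => ⟨k⟩
            invFun := fun k => k.hom }
      homEquiv_naturality_left_symm := fun f g =>
        (sheafificationAdjunction J AddCommGrpCat.{u + 1}).homEquiv_naturality_left_symm f.hom g.hom
      homEquiv_naturality_right := fun f g => CategoryTheory.Sheaf.hom_ext
        ((sheafificationAdjunction J AddCommGrpCat.{u + 1}).homEquiv_naturality_right f g) }

theorem preservesFiniteLimits_LJ : PreservesFiniteLimits (LJ J) := comp_preservesFiniteLimits _ _

theorem injective_epsJ (I : Sheaf J AddCommGrpCat.{u + 1}) [Injective I] : Injective ((epsJ J hle).obj I) := by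
  haveI := preservesFiniteLimits_LJ J
  haveI : (LJ J).PreservesMonomorphisms := preservesMonomorphisms_of_preservesLimitsOfShape _
  exact Injective.injective_of_adjoint (adjEps J hle) I

instance additive_epsJ : (epsJ J hle).Additive where

theorem preservesFiniteLimits_epsJ : PreservesFiniteLimits (epsJ J hle) := by
  haveI : (epsJ J hle).IsRightAdjoint := ⟨_, ⟨adjEps J hle⟩⟩
  infer_instance

/-- Sheaves for `J` have no sections vanishing along test morphisms. -/
theorem isZero_vanAt_epsJ (I : Sheaf J AddCommGrpCat.{u + 1}) {U Y : Over S} (g : Y ⟶ U) (hg : IsTest J g) :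
    IsZero ((vanAt g).obj ((epsJ J hle).obj I)) := by
  haveI : Subsingleton ((vanAt g).obj ((epsJ J hle).obj I)) := by
    refine subsingleton_of_forall_eq 0 fun x => Subtype.ext ?_
    refine FppfEt.Sections.eq_of_local I hg.mem fun Z f hf => ?_
    obtain ⟨_, r, _, ⟨⟩, rfl⟩ := hf
    refine (FppfEt.Sections.map_map I r g x.1).symm.trans ?_
    refine ((congrArg _ x.2).trans (map_zero _)).trans ?_
    exact (map_zero (I.obj.map (r ≫ g).op).hom).symm
  exact AddCommGrpCat.isZero_of_subsingleton _

variable {T : ShortComplex (BigSite.Ab Scheme.etalePrecoverage S)}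

/-- The quotient of a good sheaf by another one which is a sheaf for `J` and injective is good. -/
theorem good_X₃ (hT : T.ShortExact) (h1 : Good J T.X₁) (I : Sheaf J AddCommGrpCat.{u + 1}) [Injective I]
    (e : T.X₂ = (epsJ J hle).obj I) : Good J T.X₃ := by
  intro U Y g hg q
  haveI : Injective T.X₂ := e ▸ injective_epsJ J hle I
  have hz : IsZero ((vanAt g).obj T.X₂) := e ▸ isZero_vanAt_epsJ J hle I g hg
  have hacy : H16Derived.AcyclicLES.IsAcyclic (vanAt g) T.X₂ := fun i hi => by
    obtain ⟨j, rfl⟩ : ∃ j, i = j + 1 := ⟨i - 1, by omega⟩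
    exact (vanAt g).isZero_rightDerived_obj_injective_succ j T.X₂
  match q with
  | 0 =>
    obtain ⟨c⟩ := H10Coh.nonempty_rightDerived_one (vanAt g) hT hacy
    haveI : Epi ((vanAt g).map T.g) := Abelian.epi_of_cokernel_π_eq_zero _
      (((h1 U Y g hg 1).of_iso c.symm).eq_zero_of_tgt _)
    have h3 : IsZero ((vanAt g).obj T.X₃) := hz.of_epi ((vanAt g).map T.g)
    exact h3.of_iso ((Functor.rightDerivedZeroIsoSelf (vanAt g)).app T.X₃)
  | m + 1 =>
    obtain ⟨c⟩ := H10Coh.nonempty_rightDerived_shift (vanAt g) hT hacy m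
    exact (h1 U Y g hg (m + 2)).of_iso c.symm

theorem injective_presheaf_et (I : BigSite.Ab Scheme.etalePrecoverage S) [Injective I] : Injective I.obj := by
  haveI : (presheafToSheaf (QuotSh.J Scheme.etalePrecoverage S) AddCommGrpCat.{u + 1}).PreservesMonomorphisms :=
    preservesMonomorphisms_of_preservesLimitsOfShape _
  exact Injective.injective_of_adjoint (sheafificationAdjunction _ AddCommGrpCat.{u + 1}) I

/-- Good sheaves satisfy descent along test morphisms. -/
theorem isSheafFor_of_good {A : BigSite.Ab Scheme.etalePrecoverage S} (hA : Good J A) {U Y : Over S} (g : Y ⟶ U)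
    (hg : IsTest J g) :
    Presieve.IsSheafFor (A.obj ⋙ forget AddCommGrpCat.{u + 1}) (Presieve.singleton g) := by
  have hV : IsZero ((vanAt g).obj A) :=
    (hA U Y g hg 0).of_iso ((Functor.rightDerivedZeroIsoSelf (vanAt g)).app A).symm
  rw [← Presieve.ofArrows_pUnit.{0}, Presieve.isSheafFor_arrows_iff]
  intro x hx
  have hu : ∀ a b : A.obj.obj (op U), A.obj.map g.op a = A.obj.map g.op b → a = b := fun a b h => by
    let z : (A.obj.map g.op).hom.ker := ⟨a - b, by
      show A.obj.map g.op (a - b) = 0
      rw [map_sub, h, sub_self]⟩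
    have := @Subsingleton.elim _ (AddCommGrpCat.subsingleton_of_isZero hV) z 0
    exact sub_eq_zero.1 (congrArg Subtype.val this)
  let J₀ := Injective.under A
  let T : ShortComplex (BigSite.Ab Scheme.etalePrecoverage S) :=
    ShortComplex.mk (Injective.ι A) (cokernel.π (Injective.ι A)) (cokernel.condition _)
  have hT : T.ShortExact := { exact := ShortComplex.exact_of_g_is_cokernel _ (cokernelIsCokernel _) }
  have hacy : H16Derived.AcyclicLES.IsAcyclic (vanAt g) T.X₂ := fun i hi => by
    obtain ⟨j, rfl⟩ : ∃ j, i = j + 1 := ⟨i - 1, by omega⟩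
    exact (vanAt g).isZero_rightDerived_obj_injective_succ j (Injective.under A)
  obtain ⟨c⟩ := H10Coh.nonempty_rightDerived_one (vanAt g) hT hacy
  haveI : Epi ((vanAt g).map T.g) := Abelian.epi_of_cokernel_π_eq_zero _
    (((hA U Y g hg 1).of_iso c.symm).eq_zero_of_tgt _)
  haveI := injective_presheaf_et J₀
  let s := x PUnit.unit
  have hfr : ∀ ⦃Z : Over S⦄ (f : Z ⟶ U), (Sieve.generate (Presieve.singleton g)).arrows f →
      ∃ r : Z ⟶ Y, r ≫ g = f := fun Z f hf => by
    obtain ⟨_, r, _, ⟨⟩, e⟩ := hf
    exact ⟨r, e⟩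
  let y : Presieve.FamilyOfElements (J₀.obj ⋙ forget AddCommGrpCat.{u + 1})
      (Sieve.generate (Presieve.singleton g)).arrows :=
    fun Z f hf => (Injective.ι A).hom.app (op Z) (A.obj.map (hfr f hf).choose.op s)
  have hy : ∀ ⦃Z : Over S⦄ (f : Z ⟶ U) (hf : (Sieve.generate (Presieve.singleton g)).arrows f) (r : Z ⟶ Y),
      r ≫ g = f → y f hf = (Injective.ι A).hom.app (op Z) (A.obj.map r.op s) := fun Z f hf r hr =>
    congrArg ((Injective.ι A).hom.app (op Z))
      (hx PUnit.unit PUnit.unit Z _ r ((hfr f hf).choose_spec.trans hr.symm))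
  obtain ⟨t, ht⟩ := exists_extension.{u + 1} J₀.obj y (by
    refine (Presieve.compatible_iff_sieveCompatible y).2 fun Z Z' f k hf => ?_
    obtain ⟨r, e'⟩ := hfr f hf
    refine (hy (k ≫ f) ((Sieve.generate _).downward_closed hf k) (k ≫ r) (by rw [Category.assoc, e'])).trans ?_
    refine Eq.trans ?_ (congrArg (J₀.obj.map k.op) (hy f hf r e')).symm
    refine Eq.trans ?_ (ConcreteCategory.congr_hom ((Injective.ι A).hom.naturality k.op) _)
    exact congrArg _ (FppfEt.Sections.map_map A k r s).symm)
  have hgm : (Sieve.generate (Presieve.singleton g)).arrows g := ⟨Y, 𝟙 Y, g, ⟨⟩, Category.id_comp g⟩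
  have ht' : J₀.obj.map g.op t = (Injective.ι A).hom.app (op Y) s :=
    (ht g hgm).trans ((hy g hgm (𝟙 Y) (Category.id_comp g)).trans
      (congrArg _ (ConcreteCategory.congr_hom (A.obj.map_id _) s)))
  have hgf : ∀ (W : Over S) (z : A.obj.obj (op W)),
      T.g.hom.app (op W) ((Injective.ι A).hom.app (op W) z) = 0 := fun W z =>
    ConcreteCategory.congr_hom (congr_app (congrArg (fun k => (sheafToPresheaf _ _).map k) T.zero) (op W)) z
  let c₀ : (vanAt g).obj T.X₃ := ⟨T.g.hom.app (op U) t,
    (ConcreteCategory.congr_hom (T.g.hom.naturality g.op) t).symm.trans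
      ((congrArg (T.g.hom.app (op Y)) ht').trans (hgf Y s))⟩
  obtain ⟨v, hv⟩ := (AddCommGrpCat.epi_iff_surjective ((vanAt g).map T.g)).1 inferInstance c₀
  obtain ⟨a, ha⟩ := FppfEt.Sections.exists_app_eq hT.exact U (t - v.1) (by
    rw [map_sub]
    exact sub_eq_zero.2 (congrArg Subtype.val hv).symm)
  have ha' : A.obj.map g.op a = s := by
    refine FppfEt.Sections.injective_app (Injective.ι A) Y ?_
    refine (ConcreteCategory.congr_hom ((Injective.ι A).hom.naturality g.op) a).trans ?_
    refine (congrArg (J₀.obj.map g.op) ha).trans ?_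
    rw [map_sub, ht', show J₀.obj.map g.op v.1 = 0 from v.2, sub_zero]
  exact ⟨a, fun _ => ha', fun b hb => hu b a ((hb PUnit.unit).trans ha'.symm)⟩

variable [EnoughInjectives (Sheaf J AddCommGrpCat.{u + 1})]

/-- **Derived direct images of good sheaves vanish.** -/
theorem isZero_rightDerived_epsJ (hc : Crit J) :
    ∀ (q : ℕ), 0 < q → ∀ G : Sheaf J AddCommGrpCat.{u + 1}, Good J ((epsJ J hle).obj G) →
      IsZero (((epsJ J hle).rightDerived q).obj G) := by
  haveI := preservesFiniteLimits_epsJ J hle
  haveI := preservesFiniteLimits_LJ J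
  haveI : (LJ J).IsLeftAdjoint := ⟨_, ⟨adjEps J hle⟩⟩
  haveI : PreservesFiniteColimits (LJ J) := inferInstance
  haveI : (LJ J).Additive := (adjEps J hle).left_adjoint_additive
  haveI : (epsJ J hle).Full := (epsJFF J hle).full
  haveI : (epsJ J hle).Faithful := (epsJFF J hle).faithful
  have step : ∀ G : Sheaf J AddCommGrpCat.{u + 1}, Good J ((epsJ J hle).obj G) →
      ∃ (T : ShortComplex (Sheaf J AddCommGrpCat.{u + 1})) (_ : T.ShortExact), T.X₁ = G ∧ Injective T.X₂ ∧
        Good J ((epsJ J hle).obj T.X₃) ∧ Epi ((epsJ J hle).map T.g) := by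
    intro G hG
    haveI : (epsJ J hle).PreservesMonomorphisms := preservesMonomorphisms_of_preservesLimitsOfShape _
    let ι := (epsJ J hle).map (Injective.ι G)
    haveI : Mono ι := (epsJ J hle).map_mono (Injective.ι G)
    let T₀ : ShortComplex (BigSite.Ab Scheme.etalePrecoverage S) :=
      ShortComplex.mk ι (cokernel.π ι) (cokernel.condition ι)
    have hT₀ : T₀.ShortExact := { exact := ShortComplex.exact_of_g_is_cokernel _ (cokernelIsCokernel ι) }
    have h3 : Good J T₀.X₃ := good_X₃ J hle hT₀ hG (Injective.under G) rfl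
    let Q : Sheaf J AddCommGrpCat.{u + 1} := ⟨T₀.X₃.obj, hc _ fun U Y g hg => isSheafFor_of_good J h3 g hg⟩
    let π : Injective.under G ⟶ Q := ⟨(cokernel.π ι).hom⟩
    have hπ : Injective.ι G ≫ π = 0 :=
      CategoryTheory.Sheaf.hom_ext (congrArg (fun k => k.hom) (cokernel.condition ι) :)
    let T : ShortComplex (Sheaf J AddCommGrpCat.{u + 1}) := ShortComplex.mk (Injective.ι G) π hπ
    haveI : ∀ X, IsIso ((adjEps J hle).counit.app X) := fun _ => inferInstance
    have hTe : T.ShortExact := ShortComplex.shortExact_of_iso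
      (ShortComplex.isoMk (S₁ := T₀.map (LJ J)) (S₂ := T)
        (asIso ((adjEps J hle).counit.app T.X₁))
        (asIso ((adjEps J hle).counit.app T.X₂))
        (asIso ((adjEps J hle).counit.app T.X₃))
        ((adjEps J hle).counit.naturality T.f).symm
        ((adjEps J hle).counit.naturality T.g).symm) (hT₀.map_of_exact (LJ J))
    exact ⟨T, hTe, rfl, inferInstanceAs (Injective (Injective.under G)), h3, inferInstanceAs (Epi (cokernel.π ι))⟩
  intro q hq
  obtain ⟨n, rfl⟩ : ∃ n, q = n + 1 := ⟨q - 1, by omega⟩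
  clear hq
  induction n with
  | zero =>
    intro G hG
    obtain ⟨T, hT, rfl, hI, -, hepi⟩ := step G hG
    haveI := hI
    obtain ⟨e⟩ := H10Coh.nonempty_rightDerived_one (epsJ J hle) hT fun i hi => by
      obtain ⟨j, rfl⟩ : ∃ j, i = j + 1 := ⟨i - 1, by omega⟩
      exact (epsJ J hle).isZero_rightDerived_obj_injective_succ j T.X₂
    haveI := hepi
    exact (isZero_cokernel_of_epi _).of_iso e
  | succ m ih =>
    intro G hG
    obtain ⟨T, hT, rfl, hI, h3, -⟩ := step G hG
    haveI := hI
    obtain ⟨e⟩ := H10Coh.nonempty_rightDerived_shift (epsJ J hle) hT (fun i hi => by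
      obtain ⟨j, rfl⟩ : ∃ j, i = j + 1 := ⟨i - 1, by omega⟩
      exact (epsJ J hle).isZero_rightDerived_obj_injective_succ j T.X₂) m
    exact (ih T.X₃ h3).of_iso e

end Groth.Agent.H15Site.HPhEt
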