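import Groth.Agent.H15Site.HPhEt.Acyclic
import Groth.Agent.H15Site.FppfEt.Apps
import Groth.Agent.H18HTop.ProperSquare
import Groth.Agent.S8979

/-!
# Torsion étale sheaves on the big ph and h sites
-/

set_option autoImplicit false
set_option linter.style.haveILetI false
set_option linter.unusedSectionVars false
set_option backward.isDefEq.respectTransparency false
set_option backward.isDefEq.respectTransparency.types false

universe u

open CategoryTheory CategoryTheory.Limits AlgebraicGeometry Opposite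
open scoped Groth.Agent.H18Et

namespace Groth.Agent.H15Site.HPhEt

open Groth.Agent.H15Site.IntDesc (bigSh)
open Groth.Agent.H15Site.Shriek (StalkBC)
open Groth.Agent.H15Site.FppfEt (Zc sectEquiv sectEquiv_map)

section Crit

variable (S : Scheme.{u})

theorem crit_Jph : Crit (HTop.Jph S) := fun A hA => by
  rw [Presheaf.isSheaf_iff_isSheaf_forget _ _ (forget AddCommGrpCat.{u + 1}), isSheaf_iff_isSheaf_of_type]
  refine isSheaf_Jph_of _ ?_ fun U V f _ hf hs => hA U V f ⟨hf, hs, ?_⟩
  · have h : Presieve.IsSheaf (QuotSh.J Scheme.etalePrecoverage S) (A.obj ⋙ forget AddCommGrpCat.{u + 1}) :=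
      (isSheaf_iff_isSheaf_of_type _ _).1
        ((Presheaf.isSheaf_iff_isSheaf_forget _ _ (forget AddCommGrpCat.{u + 1})).1 A.property)
    exact fun Y R hR => h R (Scheme.zariskiTopology_le_etaleTopology _ hR)
  · haveI := hf
    haveI := hs
    let E : PreZeroHypercover.{u} U.left :=
      { I₀ := PUnit.{u + 1}
        X := fun _ => V.left
        f := fun _ => f.left }
    haveI : Finite E.I₀ := inferInstanceAs (Finite PUnit.{u + 1})
    haveI : ∀ i, IsProper (E.f i) := fun _ => hf
    have h := Groth.Agent.H18HTop.mem_over_of_family HTop.phPrecoverage (X' := U)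
      (I := PUnit.{u + 1}) (X := fun _ => V) (fun _ => f)
      ((HTop.presieve₀_mem_phPrecoverage_iff E).2 (H18HTop.isPhCover_of_proper E fun t => by
        obtain ⟨z, hz⟩ := f.left.surjective t
        exact ⟨PUnit.unit, z, hz⟩))
    rw [Presieve.ofArrows_pUnit] at h
    exact h

theorem crit_Jh : Crit (HTop.Jh S) := fun A hA => by
  rw [Presheaf.isSheaf_iff_isSheaf_forget _ _ (forget AddCommGrpCat.{u + 1}), isSheaf_iff_isSheaf_of_type]
  refine (Groth.Agent.S8981.result S _).2 ⟨?_, fun U V f _ hf hs hl => hA U V f ⟨hf, hs, ?_⟩⟩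
  · have h : Presieve.IsSheaf (QuotSh.J Scheme.etalePrecoverage S) (A.obj ⋙ forget AddCommGrpCat.{u + 1}) :=
      (isSheaf_iff_isSheaf_of_type _ _).1
        ((Presheaf.isSheaf_iff_isSheaf_forget _ _ (forget AddCommGrpCat.{u + 1})).1 A.property)
    exact fun Y R hR => h R (Scheme.zariskiTopology_le_etaleTopology _ hR)
  · haveI := hf
    haveI := hs
    haveI := hl
    have h := Groth.Agent.H18HTop.mem_over_of_family HTop.hPrecoverage (X' := U)
      (I := PUnit.{u + 1}) (X := fun _ => V) (fun _ => f) (by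
        rw [Presieve.ofArrows_pUnit]
        have h' := (HTop.presieve₀_mem_hPrecoverage_iff (PreZeroHypercover.singleton.{0} f.left)).2
          (Groth.Agent.S8979.result f.left)
        simpa using h')
    rw [Presieve.ofArrows_pUnit] at h
    exact h

end Crit

variable {S : Scheme.{u}} (J : GrothendieckTopology (Over S)) (hle : QuotSh.J Scheme.etalePrecoverage S ≤ J)
  (hsh : ∀ F : EtCoh.Ab S, Presheaf.IsSheaf J (bigSh F).obj)
  [(EtFppf.a S).IsContinuous S.smallEtaleTopology J] [EnoughInjectives (Sheaf J AddCommGrpCat.{u + 1})]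

/-- The inverse image to the finer site, seen on the big étale site. -/
noncomputable def epsPullIso (F : EtCoh.Ab S) :
    (epsJ J hle).obj (((EtFppf.a S).sheafPullback AddCommGrpCat.{u + 1} S.smallEtaleTopology J).obj F) ≅ bigSh F :=
  (epsJ J hle).mapIso ((pullJIso J hle hsh).app F)

include hsh in
theorem good_epsPull (hbc : StalkBC.{u}) (F : EtCoh.Ab S) (hF : EtCoh.IsTorsion F) :
    Good J ((epsJ J hle).obj (((EtFppf.a S).sheafPullback AddCommGrpCat.{u + 1} S.smallEtaleTopology J).obj F)) :=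
  fun U Y g hg q => (good_bigSh J hbc F hF U Y g hg q).of_iso
    (((vanAt g).rightDerived q).mapIso (epsPullIso J hle hsh F))

include hsh in
theorem isZero_Reps (hc : Crit J) (hbc : StalkBC.{u}) (F : EtCoh.Ab S) (hF : EtCoh.IsTorsion F) (q : ℕ)
    (hq : 0 < q) : IsZero (((epsJ J hle).rightDerived q).obj
      (((EtFppf.a S).sheafPullback AddCommGrpCat.{u + 1} S.smallEtaleTopology J).obj F)) :=
  isZero_rightDerived_epsJ J hle hc q hq _ (good_epsPull J hle hsh hbc F hF)

/-- Restriction to the small étale site. -/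
noncomputable abbrev aPushJ : Sheaf J AddCommGrpCat.{u + 1} ⥤ EtCoh.Ab S :=
  (EtFppf.a S).sheafPushforwardContinuous AddCommGrpCat.{u + 1} S.smallEtaleTopology J

instance additive_aPushJ : (aPushJ J).Additive where

/-- Restriction factors through the big étale site. -/
noncomputable def aPushIso : epsJ J hle ⋙ BigSite.resEt Scheme.etalePrecoverage S ≅ aPushJ J :=
  NatIso.ofComponents (fun _ => Iso.refl _) (fun _ => (Category.comp_id _).trans (Category.id_comp _).symm)

include hle hsh in
theorem isZero_RaPush (hc : Crit J) (hbc : StalkBC.{u}) (F : EtCoh.Ab S) (hF : EtCoh.IsTorsion F) (q : ℕ)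
    (hq : 0 < q) : IsZero (((aPushJ J).rightDerived q).obj
      (((EtFppf.a S).sheafPullback AddCommGrpCat.{u + 1} S.smallEtaleTopology J).obj F)) := by
  obtain ⟨h1, h2⟩ := H13Desc.BigExact.resEt_exact S
  haveI : (BigSite.resEt Scheme.etalePrecoverage S).Additive := Functor.additive_of_preserves_binary_products _
  let G := ((EtFppf.a S).sheafPullback AddCommGrpCat.{u + 1} S.smallEtaleTopology J).obj F
  let I := injectiveResolution G
  exact (((BigSite.resEt Scheme.etalePrecoverage S).map_isZero (isZero_Reps J hle hsh hc hbc F hF q hq)).of_iso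
    ((H02CA.RDPostcomp.postcompIso (epsJ J hle) (BigSite.resEt Scheme.etalePrecoverage S) q).app G)).of_iso
    (I.isoRightDerivedObj _ q ≪≫ (HomologicalComplex.homologyFunctor _ _ q).mapIso
      ((NatIso.mapHomologicalComplex (aPushIso J hle) (ComplexShape.up ℕ)).app I.cocomplex).symm ≪≫
      (I.isoRightDerivedObj _ q).symm)

include hle hsh in
theorem isIso_unit (F : EtCoh.Ab S) :
    IsIso (((EtFppf.a S).sheafAdjunctionContinuous AddCommGrpCat.{u + 1} S.smallEtaleTopology J).unit.app F) := by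
  haveI : ∀ G, IsIso ((BigSite.piEtAdj Scheme.etalePrecoverage S).unit.app G) := (Groth.Agent.S6184.result S).2
  haveI : IsIso (BigSite.piEtAdj Scheme.etalePrecoverage S).unit := NatIso.isIso_of_isIso_app _
  let ff := (BigSite.piEtAdj Scheme.etalePrecoverage S).fullyFaithfulLOfIsIsoUnit
  let e : piJ J hsh ⋙ epsJ J hle ≅ BigSite.piEtPull Scheme.etalePrecoverage S :=
    NatIso.ofComponents (fun _ => Iso.refl _) (fun _ => (Category.comp_id _).trans (Category.id_comp _).symm)
  haveI := ff.full
  haveI := ff.faithful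
  haveI : (epsJ J hle).Faithful := (epsJFF J hle).faithful
  haveI : (epsJ J hle).Full := (epsJFF J hle).full
  haveI : (piJ J hsh ⋙ epsJ J hle).Full := Functor.Full.of_iso e.symm
  haveI : (piJ J hsh ⋙ epsJ J hle).Faithful := Functor.Faithful.of_iso e.symm
  haveI : (piJ J hsh).Full := Functor.Full.of_comp_faithful (piJ J hsh) (epsJ J hle)
  haveI : (piJ J hsh).Faithful := Functor.Faithful.of_comp (piJ J hsh) (epsJ J hle)
  haveI := Functor.Full.of_iso (pullJIso J hle hsh).symm
  haveI := Functor.Faithful.of_iso (pullJIso J hle hsh).symm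
  infer_instance

/-- Global sections on the small étale site. -/
noncomputable abbrev topSect : EtCoh.Ab S ⥤ AddCommGrpCat.{u + 1} :=
  sheafToPresheaf _ _ ⋙ (evaluation _ AddCommGrpCat.{u + 1}).obj (op (EtCoh.top S))

include hle hsh in
/-- **Cohomology on the finer site is étale cohomology.** -/
theorem nonempty_H_iso [HasExt.{u + 1} (Sheaf J AddCommGrpCat.{u + 1})]
    [HasExt.{u + 1} (EtCoh.Ab S)] (hc : Crit J) (hbc : StalkBC.{u}) (F : EtCoh.Ab S)
    (hF : EtCoh.IsTorsion F) (q : ℕ) :
    Nonempty (EtCoh.H S F q ≃+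
      Sheaf.H (((EtFppf.a S).sheafPullback AddCommGrpCat.{u + 1} S.smallEtaleTopology J).obj F) q) := by
  let aP := (EtFppf.a S).sheafPullback AddCommGrpCat.{u + 1} S.smallEtaleTopology J
  let G := aP.obj F
  haveI := isIso_unit J hle hsh F
  haveI : aP.IsLeftAdjoint :=
    ⟨_, ⟨(EtFppf.a S).sheafAdjunctionContinuous AddCommGrpCat.{u + 1} S.smallEtaleTopology J⟩⟩
  haveI : (aPushJ J).IsRightAdjoint :=
    ⟨_, ⟨(EtFppf.a S).sheafAdjunctionContinuous AddCommGrpCat.{u + 1} S.smallEtaleTopology J⟩⟩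
  haveI : PreservesFiniteLimits (aPushJ J) := inferInstance
  obtain ⟨e⟩ := H17.FLI.CompDeg.nonempty_rightDerived_comp (aPushJ J) (topSect (S := S))
    (fun I hI => by
      haveI := hI
      haveI := injective_epsJ J hle I
      exact H13Desc.BigExact.injective_resEt Scheme.etalePrecoverage ((epsJ J hle).obj I))
    G 0 (fun i hi => isZero_RaPush J hle hsh hc hbc F hF i (Nat.pos_of_ne_zero hi)) q
  let R := injectiveResolution G
  let R' := injectiveResolution F
  let hT : IsTerminal ((EtFppf.a S).obj (EtCoh.top S)) :=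
    (Over.mkIdTerminal : IsTerminal (Over.mk (𝟙 S)))
  let i₁ : AddCommGrpCat.of (EtCoh.H S F q) ≅ ((topSect (S := S)).rightDerived q).obj F :=
    (RDExt.homologyEquiv (Zc.{u + 1, u, u + 1} S.smallEtaleTopology) (topSect (S := S))
      (sectEquiv (EtCore.topIsTerminal S)) (fun _ _ f s => sectEquiv_map (EtCore.topIsTerminal S) f s)
      R' q).toAddCommGrpIso.symm ≪≫ (R'.isoRightDerivedObj (topSect (S := S)) q).symm
  let i₂ : ((aPushJ J ⋙ topSect (S := S)).rightDerived q).obj G ≅
      AddCommGrpCat.of (Sheaf.H G q) :=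
    R.isoRightDerivedObj (aPushJ J ⋙ topSect (S := S)) q ≪≫
      (RDExt.homologyEquiv (Zc.{u + 1, u, u + 1} J) (aPushJ J ⋙ topSect (S := S))
        (sectEquiv hT) (fun _ _ f s => sectEquiv_map hT f s) R q).toAddCommGrpIso
  exact ⟨(i₁ ≪≫ ((topSect (S := S)).rightDerived q).mapIso
      (asIso (((EtFppf.a S).sheafAdjunctionContinuous AddCommGrpCat.{u + 1} S.smallEtaleTopology J).unit.app F) ≪≫
        ((Functor.rightDerivedZeroIsoSelf (aPushJ J)).app G).symm) ≪≫ e.symm ≪≫ i₂).addCommGroupIsoToAddEquiv⟩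

section Push

variable {X Y : Scheme.{u}} (f : X ⟶ Y) [IsProper f]
  (JX : GrothendieckTopology (Over X)) (JY : GrothendieckTopology (Over Y))
  (hleX : QuotSh.J Scheme.etalePrecoverage X ≤ JX) (hleY : QuotSh.J Scheme.etalePrecoverage Y ≤ JY)
  (hshX : ∀ F : EtCoh.Ab X, Presheaf.IsSheaf JX (bigSh F).obj)
  (hshY : ∀ F : EtCoh.Ab Y, Presheaf.IsSheaf JY (bigSh F).obj)
  [(EtFppf.a X).IsContinuous X.smallEtaleTopology JX] [(EtFppf.a Y).IsContinuous Y.smallEtaleTopology JY]
  [(Over.pullback f).IsContinuous JY JX] [EnoughInjectives (Sheaf JX AddCommGrpCat.{u + 1})]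

/-- Direct image between the finer sites. -/
noncomputable abbrev pushJ : Sheaf JX AddCommGrpCat.{u + 1} ⥤ Sheaf JY AddCommGrpCat.{u + 1} :=
  (Over.pullback f).sheafPushforwardContinuous AddCommGrpCat.{u + 1} JY JX

instance additive_pushJ : (pushJ f JX JY).Additive where

/-- Direct images commute with the passage to the étale sites. -/
noncomputable def pushEpsIso :
    epsJ JX hleX ⋙ BigSite.pushBig Scheme.etalePrecoverage f AddCommGrpCat.{u + 1} ≅
      pushJ f JX JY ⋙ epsJ JY hleY :=
  NatIso.ofComponents (fun _ => Iso.refl _) (fun _ => (Category.comp_id _).trans (Category.id_comp _).symm)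

include hleX hleY hshX hshY in
/-- **Inverse images to the finer sites commute with higher proper direct images of torsion sheaves.** -/
theorem nonempty_pull_Rpush (hcX : Crit JX) (hbc : StalkBC.{u}) (F : EtCoh.Ab X) (hF : EtCoh.IsTorsion F)
    (q : ℕ) :
    Nonempty (((EtFppf.a Y).sheafPullback AddCommGrpCat.{u + 1} Y.smallEtaleTopology JY).obj
        ((EtCoh.Rpush f q).obj F) ≅
      ((pushJ f JX JY).rightDerived q).obj
        (((EtFppf.a X).sheafPullback AddCommGrpCat.{u + 1} X.smallEtaleTopology JX).obj F)) := by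
  let P := BigSite.pushBig Scheme.etalePrecoverage f AddCommGrpCat.{u + 1}
  let G := ((EtFppf.a X).sheafPullback AddCommGrpCat.{u + 1} X.smallEtaleTopology JX).obj F
  haveI := preservesFiniteLimits_epsJ JX hleX
  haveI := preservesFiniteLimits_LJ JY
  haveI : (LJ JY).IsLeftAdjoint := ⟨_, ⟨adjEps JY hleY⟩⟩
  haveI : PreservesFiniteColimits (LJ JY) := inferInstance
  haveI : (LJ JY).Additive := (adjEps JY hleY).left_adjoint_additive
  haveI : (epsJ JY hleY).Full := (epsJFF JY hleY).full
  haveI : (epsJ JY hleY).Faithful := (epsJFF JY hleY).faithful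
  haveI : IsIso (adjEps JY hleY).counit := inferInstance
  obtain ⟨e⟩ := H17.FLI.CompDeg.nonempty_rightDerived_comp (epsJ JX hleX) P
    (fun I hI => by haveI := hI; exact injective_epsJ JX hleX I) G 0
    (fun i hi => isZero_Reps JX hleX hshX hcX hbc F hF i (Nat.pos_of_ne_zero hi)) q
  obtain ⟨r⟩ := FppfEt.nonempty_piEtPull_Rpush f hbc q F hF
  let I := injectiveResolution G
  let Φ := pushJ f JX JY ⋙ epsJ JY hleY
  let e₁ : (Φ.rightDerived q).obj G ≅ bigSh ((EtCoh.Rpush f q).obj F) :=
    (I.isoRightDerivedObj Φ q ≪≫ (HomologicalComplex.homologyFunctor _ _ q).mapIso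
      ((NatIso.mapHomologicalComplex (pushEpsIso f JX JY hleX hleY) (ComplexShape.up ℕ)).app I.cocomplex).symm ≪≫
      (I.isoRightDerivedObj _ q).symm) ≪≫ e ≪≫
      (P.rightDerived q).mapIso ((Functor.rightDerivedZeroIsoSelf (epsJ JX hleX)).app G ≪≫
        epsPullIso JX hleX hshX F) ≪≫ r.symm
  let ζ : Φ ⋙ LJ JY ≅ pushJ f JX JY :=
    Functor.associator _ _ _ ≪≫ Functor.isoWhiskerLeft (pushJ f JX JY) (asIso (adjEps JY hleY).counit) ≪≫
      Functor.rightUnitor _
  exact ⟨((asIso ((adjEps JY hleY).counit.app _)).symm ≪≫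
      (LJ JY).mapIso (epsPullIso JY hleY hshY _)) ≪≫ (LJ JY).mapIso e₁.symm ≪≫
    ((H02CA.RDPostcomp.postcompIso Φ (LJ JY) q).app G).symm ≪≫
    (I.isoRightDerivedObj (Φ ⋙ LJ JY) q ≪≫ (HomologicalComplex.homologyFunctor _ _ q).mapIso
      ((NatIso.mapHomologicalComplex ζ (ComplexShape.up ℕ)).app I.cocomplex) ≪≫
      (I.isoRightDerivedObj (pushJ f JX JY) q).symm)⟩

end Push

end Groth.Agent.H15Site.HPhEt
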