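import Groth.Agent.H15Site.FppfEt.ProperPush
import Groth.Agent.H15Site.SetDescent.Apps
import Groth.Agent.H18PBC.AbCompare

/-!
# Descent of `π⁻¹F` along universally submersive morphisms

Sections of `π⁻¹F` over `V` are sections of the inverse image of `F` on the small étale site of `V`; these
descend along universally submersive morphisms.
-/

set_option autoImplicit false
set_option linter.style.haveILetI false
set_option linter.unusedSectionVars false
set_option backward.isDefEq.respectTransparency false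
set_option backward.isDefEq.respectTransparency.types false

universe u

open CategoryTheory CategoryTheory.Limits AlgebraicGeometry Opposite
open scoped Groth.Agent.H18Et

namespace Groth.Agent.H15Site.HPhEt

open Groth.Agent.H15Site.IntDesc (bigSh)
open Groth.Agent.H15Site.SetDescent (pullSect transfer tm tm_eq tm_fst_fst trans₁ trans₂ q₀)
open Groth.Agent.H18PBC (und pullCmp pullCmp_pullSect isIso_pullCmp)
open Groth.Agent.H15Site.FppfEt (fstHom τ τ_unit isIso_τ)
open Groth.Agent.H15Site.FppfEt

variable {B T S : Scheme.{u}} (H : EtCoh.Ab B)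

/-- `π⁻¹H` on the small étale site of an object. -/
noncomputable abbrev R (a : S ⟶ B) : EtCoh.Ab S :=
  (BigSite.resEtAlong Scheme.etalePrecoverage a).obj (bigSh H)

/-- The inverse image of sheaves of sets computes `π⁻¹H` on the small sites. -/
noncomputable def γ (a : S ⟶ B) : (EtDesc.pullSh a).obj (und H) ⟶ und (R H a) :=
  pullCmp a H ≫ (sheafCompose S.smallEtaleTopology (forget AddCommGrpCat.{u + 1})).map (τ a H)

theorem bijective_γ (a : S ⟶ B) (U : S.Etale) : Function.Bijective ((γ H a).hom.app (op U)) := by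
  haveI := isIso_pullCmp a H
  haveI := isIso_τ a H
  haveI : IsIso (γ H a) := by unfold γ; infer_instance
  exact (isIso_iff_bijective _).1
    (inferInstance : IsIso (((sheafToPresheaf _ _).map (γ H a)).app (op U)))

theorem γ_pullSect (a : S ⟶ B) (W : B.Etale) (s : EtCoh.sect H W) :
    (γ H a).hom.app (op ((EtCoh.bc a).obj W)) (pullSect a (und H) s) =
      (bigSh H).obj.map (fstHom a W).op
        (((BigSite.piEtAdj Scheme.etalePrecoverage B).unit.app H).hom.app (op W) s) :=
  (congrArg ((τ a H).hom.app (op ((EtCoh.bc a).obj W))) (pullCmp_pullSect a H s)).trans (τ_unit a H W s)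

variable (p : T ⟶ S) (a : S ⟶ B) (b : T ⟶ B) (w : p ≫ a = b)

/-- `U ×_S T ⟶ U` over `B`. -/
noncomputable def rMap (U : S.Etale) :
    (Over.map b).obj ((EtFppf.a T).obj ((EtCoh.bc p).obj U)) ⟶ (Over.map a).obj ((EtFppf.a S).obj U) :=
  Over.homMk (pullback.fst U.hom p) (by
    show pullback.fst U.hom p ≫ U.hom ≫ a = pullback.snd U.hom p ≫ b
    rw [pullback.condition_assoc, w])

theorem rMap_naturality {U U' : S.Etale} (h : U' ⟶ U) :
    (Over.map b).map ((EtFppf.a T).map ((EtCoh.bc p).map h)) ≫ rMap p a b w U =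
      rMap p a b w U' ≫ (Over.map a).map ((EtFppf.a S).map h) :=
  Over.OverMorphism.ext (EtCoh.isPullback_bc_map p h).w

/-- Restriction of `π⁻¹H` along `T ⟶ S`. -/
noncomputable def ρ : R H a ⟶ (EtCoh.push p).obj (R H b) :=
  ⟨{ app := fun U => (bigSh H).obj.map (rMap p a b w U.unop).op
     naturality := fun U U' h => by
      show (bigSh H).obj.map ((Over.map a).map ((EtFppf.a S).map h.unop)).op ≫
          (bigSh H).obj.map (rMap p a b w U'.unop).op =
        (bigSh H).obj.map (rMap p a b w U.unop).op ≫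
          (bigSh H).obj.map ((Over.map b).map ((EtFppf.a T).map ((EtCoh.bc p).map h.unop))).op
      rw [← Functor.map_comp, ← Functor.map_comp, ← op_comp, ← op_comp, rMap_naturality] }⟩

/-- The adjoint of the restriction. -/
noncomputable def Ψ : (EtDesc.pullSh p).obj (und (R H a)) ⟶ und (R H b) :=
  ((EtDesc.adjSh p).homEquiv _ _).symm
    ((sheafCompose S.smallEtaleTopology (forget AddCommGrpCat.{u + 1})).map (ρ H p a b w) :
      und (R H a) ⟶ (EtDesc.pushSh p).obj (und (R H b)))

theorem Ψ_pullSect (U : S.Etale) (s : EtCoh.sect (R H a) U) :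
    (Ψ H p a b w).hom.app (op ((EtCoh.bc p).obj U)) (pullSect p (und (R H a)) s) =
      (bigSh H).obj.map (rMap p a b w U).op s :=
  ConcreteCategory.congr_hom
    (congrArg (fun q : und (R H a) ⟶ (EtDesc.pushSh p).obj (und (R H b)) => q.hom.app (op U))
      (((EtDesc.adjSh p).homEquiv_unit _ _ (Ψ H p a b w)).symm.trans (Equiv.apply_symm_apply _ _))) s

/-- The structure map between the two small sites. -/
noncomputable def cmpMap (W : B.Etale) :
    (Over.map b).obj ((EtFppf.a T).obj ((EtCoh.bc b).obj W)) ⟶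
      (Over.map a).obj ((EtFppf.a S).obj ((EtCoh.bc a).obj W)) :=
  (Over.map b).map ((EtFppf.a T).map (tm p a b w W)) ≫ rMap p a b w ((EtCoh.bc a).obj W)

theorem cmpMap_fstHom (W : B.Etale) : cmpMap p a b w W ≫ fstHom a W = fstHom b W :=
  Over.OverMorphism.ext (tm_fst_fst p a b w W)

theorem γ_transfer_pullSect (W : B.Etale) (s : EtCoh.sect H W) :
    (γ H b).hom.app (op ((EtCoh.bc b).obj W)) (transfer p a b w (und H) W (pullSect a (und H) s)) =
      (bigSh H).obj.map (cmpMap p a b w W).op
        ((γ H a).hom.app (op ((EtCoh.bc a).obj W)) (pullSect a (und H) s)) := by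
  refine (congrArg _ (SetDescent.transfer_pullSect p a b w (und H) s)).trans ?_
  refine (γ_pullSect H b W s).trans ?_
  refine Eq.trans ?_ (congrArg _ (γ_pullSect H a W s)).symm
  refine Eq.trans ?_ (Sections.map_map (bigSh H) _ _ _).symm
  exact Sections.map_congr (bigSh H) (cmpMap_fstHom p a b w W).symm _

theorem pullVia_γ :
    (EtDesc.pullVia p a b w (und H)).hom ≫ γ H b = (EtDesc.pullSh p).map (γ H a) ≫ Ψ H p a b w := by
  apply ((EtDesc.adjSh p).homEquiv _ _).injective
  apply ((EtDesc.adjSh a).homEquiv _ _).injective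
  simp only [Adjunction.homEquiv_unit]
  refine CategoryTheory.Sheaf.hom_ext (NatTrans.ext (funext fun W => ConcreteCategory.hom_ext _ _ fun s => ?_))
  obtain ⟨W⟩ := W
  show (γ H b).hom.app _ ((EtDesc.pullVia p a b w (und H)).hom.hom.app _
      (pullSect p _ (pullSect a (und H) s))) =
    (Ψ H p a b w).hom.app _ (((EtDesc.pullSh p).map (γ H a)).hom.app _
      (pullSect p _ (pullSect a (und H) s)))
  haveI : IsIso (tm p a b w W) := by
    subst w
    rw [← tm_eq]
    infer_instance
  refine ((isIso_iff_bijective _).1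
    (inferInstance : IsIso ((und (R H b)).obj.map (tm p a b w W).op))).1 ?_
  refine (NatTrans.naturality_apply (γ H b).hom (tm p a b w W).op _).symm.trans ?_
  refine (γ_transfer_pullSect H p a b w W s).trans ?_
  refine Eq.trans ?_ (congrArg _ (congrArg ((Ψ H p a b w).hom.app _)
    (SetDescent.pullSect_naturality p (γ H a) (pullSect a (und H) s)))).symm
  refine Eq.trans ?_ (congrArg _ (Ψ_pullSect H p a b w _ _)).symm
  exact (Sections.map_map (bigSh H) _ _ _).symm

/-- Transfer of sections is restriction of sections of `π⁻¹H`. -/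
theorem γ_transfer (W : B.Etale)
    (x : ((EtDesc.pullSh a).obj (und H)).obj.obj (op ((EtCoh.bc a).obj W))) :
    (γ H b).hom.app (op ((EtCoh.bc b).obj W)) (transfer p a b w (und H) W x) =
      (bigSh H).obj.map (cmpMap p a b w W).op ((γ H a).hom.app (op ((EtCoh.bc a).obj W)) x) := by
  refine (NatTrans.naturality_apply (γ H b).hom (tm p a b w W).op _).trans ?_
  have e := ConcreteCategory.congr_hom
    (congr_app (congrArg (fun q => q.hom) (pullVia_γ H p a b w)) (op ((EtCoh.bc p).obj ((EtCoh.bc a).obj W))))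
    (pullSect p ((EtDesc.pullSh a).obj (und H)) x)
  refine (congrArg _ (e.trans ((congrArg ((Ψ H p a b w).hom.app _)
    (SetDescent.pullSect_naturality p (γ H a) x)).trans (Ψ_pullSect H p a b w _ _)))).trans ?_
  exact Sections.map_map (bigSh H) _ _ _

variable {V : Scheme.{u}} (f : V ⟶ B)

/-- **Descent over the base.** -/
theorem existsUnique_base (hf : EtDesc.IsUnivSubmersive f) (x : (bigSh H).obj.obj (op (Over.mk f)))
    (h : ∀ (Z : Over B) (a b : Z ⟶ Over.mk f), (bigSh H).obj.map a.op x = (bigSh H).obj.map b.op x) :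
    ∃! y : (bigSh H).obj.obj (op (Over.mk (𝟙 B))),
      (bigSh H).obj.map (Over.homMk f (Category.comp_id _) : Over.mk f ⟶ Over.mk (𝟙 B)).op y = x := by
  let P := bigSh H
  let A := (EtFppf.a B).obj (EtCoh.top B)
  have hA : IsTerminal A := Over.mkIdTerminal
  let O := (Over.map f).obj ((EtFppf.a V).obj ((EtCoh.bc f).obj (EtCoh.top B)))
  let e : O ⟶ Over.mk f := Over.homMk (pullback.snd (EtCoh.top B).hom f) rfl
  haveI : IsIso e := by
    haveI : IsIso (EtCoh.top B).hom := inferInstanceAs (IsIso (𝟙 B))
    haveI : IsIso ((Over.forget B).map e) :=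
      inferInstanceAs (IsIso (pullback.snd (EtCoh.top B).hom f))
    exact isIso_of_reflects_iso _ (Over.forget B)
  haveI := (Groth.Agent.S6184.result B).2 H
  have hu : Function.Bijective
      (((BigSite.piEtAdj Scheme.etalePrecoverage B).unit.app H).hom.app (op (EtCoh.top B))) :=
    ConcreteCategory.bijective_of_isIso
      (((sheafToPresheaf _ _).map ((BigSite.piEtAdj Scheme.etalePrecoverage B).unit.app H)).app (op (EtCoh.top B)))
  have he : Function.Injective (P.obj.map e.op) := (ConcreteCategory.bijective_of_isIso (P.obj.map e.op)).1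
  obtain ⟨s', hs'⟩ := (bijective_γ H f ((EtCoh.bc f).obj (EtCoh.top B))).2 (P.obj.map e.op x)
  have hγ : ∀ (p' : EtDesc.X2 f ⟶ V) (w' : p' ≫ f = q₀ f),
      (γ H (q₀ f)).hom.app _ (transfer p' f (q₀ f) w' (und H) (EtCoh.top B) s') =
        P.obj.map (cmpMap p' f (q₀ f) w' (EtCoh.top B) ≫ e).op x := fun p' w' =>
    (γ_transfer H p' f (q₀ f) w' _ s').trans ((congrArg _ hs').trans (Sections.map_map P _ _ x))
  have htr : trans₁ f (und H) (EtCoh.top B) s' = trans₂ f (und H) (EtCoh.top B) s' :=
    (bijective_γ H (q₀ f) _).1 ((hγ _ rfl).trans ((h _ _ _).trans (hγ _ pullback.condition.symm).symm))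
  obtain ⟨t, ht, htu⟩ := SetDescent.existsUnique_section (f := f) hf (und H) (EtCoh.top B) s' htr
  let j : Over.mk (𝟙 B) ⟶ A := hA.from _
  haveI : IsIso j := isIso_of_isTerminal Over.mkIdTerminal hA j
  have hkey : ∀ t' : EtCoh.sect H (EtCoh.top B),
      P.obj.map e.op (P.obj.map (Over.homMk f (Category.comp_id _) : Over.mk f ⟶ Over.mk (𝟙 B)).op
        (P.obj.map j.op (((BigSite.piEtAdj Scheme.etalePrecoverage B).unit.app H).hom.app _ t'))) =
      (γ H f).hom.app _ (pullSect f (und H) t') := fun t' => by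
    refine Eq.trans ?_ (γ_pullSect H f _ t').symm
    refine (congrArg _ (Sections.map_map P _ _ _)).trans ((Sections.map_map P _ _ _).trans ?_)
    exact Sections.map_congr P (hA.hom_ext _ _) _
  refine ⟨P.obj.map j.op (((BigSite.piEtAdj Scheme.etalePrecoverage B).unit.app H).hom.app _ t), ?_, ?_⟩
  · exact he ((hkey t).trans ((congrArg _ ht).trans hs'))
  · intro y' hy'
    obtain ⟨z, hz⟩ := (ConcreteCategory.bijective_of_isIso (P.obj.map j.op)).2 y'
    obtain ⟨t', ht'⟩ := hu.2 z
    subst hz ht'
    have : pullSect f (und H) t' = s' :=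
      (bijective_γ H f _).1 ((hkey t').symm.trans ((congrArg _ hy').trans hs'.symm))
    obtain rfl : t' = t := htu t' this
    rfl



end Groth.Agent.H15Site.HPhEt
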