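import Groth.Agent.H15Site.HPhEt.Descent
import Groth.Agent.S8981
import Groth.Agent.H18HTop.PhBind

/-!
# Inverse images from the small étale site are h and ph sheaves
-/

set_option autoImplicit false
set_option linter.style.haveILetI false
set_option linter.unusedSectionVars false
set_option backward.isDefEq.respectTransparency false
set_option backward.isDefEq.respectTransparency.types false

universe w u

open CategoryTheory CategoryTheory.Limits AlgebraicGeometry Opposite HTop
open scoped Groth.Agent.H18Et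

namespace Groth.Agent.H15Site.HPhEt

open Groth.Agent.H15Site.IntDesc (bigSh)
open Groth.Agent.H15Site.FppfEt

theorem isUnivSubmersive_of_isProper {X Y : Scheme.{u}} (f : X ⟶ Y) [IsProper f] [Surjective f] :
    EtDesc.IsUnivSubmersive f := fun Z g => by
  haveI : IsProper (pullback.snd f g) := MorphismProperty.pullback_snd (P := @IsProper) f g inferInstance
  haveI : Surjective (pullback.snd f g) := MorphismProperty.pullback_snd (P := @Surjective) f g inferInstance
  exact ⟨(pullback.snd f g).surjective, (pullback.snd f g).isClosedMap.isQuotientMap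
    (pullback.snd f g).continuous (pullback.snd f g).surjective⟩

variable {S : Scheme.{u}} (F : EtCoh.Ab S)

/-- The underlying presheaf of sets of `π⁻¹F`. -/
noncomputable abbrev setP : (Over S)ᵒᵖ ⥤ Type (u + 1) := (bigSh F).obj ⋙ forget AddCommGrpCat.{u + 1}

/-- **Descent of `π⁻¹F`.** -/
theorem isSheafFor_singleton {U V : Over S} (g : V ⟶ U) (hg : EtDesc.IsUnivSubmersive g.left) :
    Presieve.IsSheafFor (setP F) (Presieve.singleton g) := by
  rw [← Presieve.ofArrows_pUnit.{0}, Presieve.isSheafFor_arrows_iff]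
  intro x hx
  let P := bigSh F
  let iV : (Over.map U.hom).obj (Over.mk g.left) ⟶ V := Over.homMk (𝟙 _)
    ((Category.id_comp _).trans (Over.w g).symm)
  haveI : IsIso iV := by
    haveI : IsIso ((Over.forget S).map iV) := inferInstanceAs (IsIso (𝟙 V.left))
    exact isIso_of_reflects_iso _ (Over.forget S)
  let iU : (Over.map U.hom).obj (Over.mk (𝟙 U.left)) ⟶ U := Over.homMk (𝟙 _) rfl
  haveI : IsIso iU := by
    haveI : IsIso ((Over.forget S).map iU) := inferInstanceAs (IsIso (𝟙 U.left))
    exact isIso_of_reflects_iso _ (Over.forget S)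
  let g₀ : (Over.mk g.left : Over U.left) ⟶ Over.mk (𝟙 U.left) := Over.homMk g.left (Category.comp_id _)
  have hsq : iV ≫ g = (Over.map U.hom).map g₀ ≫ iU :=
    Over.OverMorphism.ext ((Category.id_comp _).trans (Category.comp_id _).symm)
  obtain ⟨y', hy', hy'u⟩ := existsUnique_base (FB F U) g.left hg
    (θh F (Over.mk g.left) (P.obj.map iV.op (x PUnit.unit))) fun Z a b => by
      refine (θh_map F a _).symm.trans (Eq.trans (congrArg (θh F Z) ?_) (θh_map F b _))
      refine (Sections.map_map P _ _ _).trans (Eq.trans ?_ (Sections.map_map P _ _ _).symm)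
      exact hx PUnit.unit PUnit.unit ((Over.map U.hom).obj Z) _ _ (Over.OverMorphism.ext
        ((congrArg (· ≫ g.left) (Category.comp_id a.left)).trans
          ((Over.w a).trans ((Over.w b).symm.trans (congrArg (· ≫ g.left) (Category.comp_id b.left)).symm))))
  have hU := ConcreteCategory.bijective_of_isIso (P.obj.map iU.op)
  have hV := ConcreteCategory.bijective_of_isIso (P.obj.map iV.op)
  have key : ∀ z : P.obj.obj (op U), P.obj.map g.op z = x PUnit.unit ↔
      θh F (Over.mk (𝟙 U.left)) (P.obj.map iU.op z) = y' := fun z => by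
    rw [← hV.1.eq_iff]
    have e : P.obj.map iV.op (P.obj.map g.op z) =
        P.obj.map ((Over.map U.hom).map g₀).op (P.obj.map iU.op z) :=
      (Sections.map_map P _ _ z).trans ((Sections.map_congr P hsq z).trans (Sections.map_map P _ _ z).symm)
    rw [e, ← (Function.LeftInverse.injective (θi_θh F (Over.mk g.left))).eq_iff, θh_map]
    exact ⟨fun h => hy'u _ h, fun h => h ▸ hy'⟩
  obtain ⟨z, hz⟩ := hU.2 (θi F (Over.mk (𝟙 U.left)) y')
  refine ⟨z, fun _ => (key z).2 ((congrArg _ hz).trans (θh_θi F _ y')), fun z' hz' => hU.1 ?_⟩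
  exact (Function.LeftInverse.injective (θi_θh F _) (((key z').1 (hz' PUnit.unit)).trans
    (θh_θi F _ y').symm)).trans hz.symm

theorem isSheaf_zariski : Presieve.IsSheaf (Scheme.zariskiTopology.over S) (setP F) := by
  have h : Presieve.IsSheaf (QuotSh.J Scheme.etalePrecoverage S) (setP F) :=
    (isSheaf_iff_isSheaf_of_type _ _).1
      ((Presheaf.isSheaf_iff_isSheaf_forget _ _ (forget AddCommGrpCat.{u + 1})).1 (bigSh F).property)
  refine fun Y R hR => h R ?_
  exact Scheme.zariskiTopology_le_etaleTopology _ hR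

/-- Sheaves for the ph topology over a base, from Zariski descent and descent along proper surjections. -/
theorem isSheaf_Jph_of (G : (Over S)ᵒᵖ ⥤ Type w) (hz : Presieve.IsSheaf (Scheme.zariskiTopology.over S) G)
    (hP : ∀ (U V : Over S) (f : V ⟶ U), IsAffine U.left → IsProper f.left → Surjective f.left →
      Presieve.IsSheafFor G (Presieve.singleton f)) : Presieve.IsSheaf (HTop.Jph S) G := by
  have hZ : ∀ {Y : Over S} (R : Sieve Y), R ∈ Scheme.zariskiTopology.over S Y →
      R ∈ Sheaf.finestTopologySingle G Y := fun R hR Z g =>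
    hz _ (GrothendieckTopology.pullback_stable _ g hR)
  suffices key : ∀ {T : Scheme.{u}} (R : Sieve T), R ∈ HTop.phTopology T → ∀ (Z : Over S) (g : Z.left ⟶ T),
      (Sieve.overEquiv Z).symm (R.pullback g) ∈ Sheaf.finestTopologySingle G Z by
    intro Y R hR
    have h := key _ hR Y (𝟙 _)
    rw [Sieve.pullback_id, OrderIso.symm_apply_apply] at h
    have h' := h _ (𝟙 Y)
    rwa [Sieve.pullback_id] at h'
  intro T R hR
  induction hR with
  | top => intro Z g; rw [Sieve.pullback_top, map_top]; exact GrothendieckTopology.top_mem _ _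
  | pullback X R hR Y f ih =>
    intro Z g
    rw [← Sieve.pullback_comp]
    exact ih Z (g ≫ f)
  | transitive X R R' hR hR' ih1 ih2 =>
    intro Z g
    refine GrothendieckTopology.transitive _ (ih1 Z g) _ fun Z' f hf => ?_
    rw [Sieve.overEquiv_symm_iff, Sieve.pullback_apply] at hf
    rw [← Sieve.overEquiv_symm_pullback, ← Sieve.pullback_comp]
    have h := ih2 hf Z' (𝟙 _)
    rwa [Sieve.pullback_id] at h
  | of X P hP' =>
    intro Z₀ g₀
    obtain ⟨E, rfl⟩ := Presieve.exists_eq_preZeroHypercover P
    have hE := (HTop.presieve₀_mem_phPrecoverage_iff E).1 hP'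
    refine GrothendieckTopology.transitive _ (hZ _ (H18HTop.OverTopology.affineArrows_mem _)) _
      fun Z f hf => ?_
    obtain ⟨W, l, a, ⟨hW, ha⟩, rfl⟩ := hf
    rw [Sieve.pullback_comp]
    refine GrothendieckTopology.pullback_stable _ l ?_
    haveI := hW
    obtain ⟨F', hF', hR'⟩ := H18HTop.exists_standardPh (a.left ≫ g₀) hE
    obtain ⟨Y', g, ι, hg, hgs, ho, hι, hcov⟩ := hF'.exists_proper
    haveI := hg; haveI := hgs
    let Yo : Over S := Over.mk (g ≫ W.hom)
    let go : Yo ⟶ W := Over.homMk g rfl
    have hgo : Sieve.generate (Presieve.singleton go) ∈ Sheaf.finestTopologySingle G W :=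
      H18HTop.OverTopology.singleton_mem G
        (P := @IsProper ⊓ @Surjective) hz
        (fun U V f hU hf => hP U V f hU hf.1 hf.2) go ⟨hg, hgs⟩
    refine GrothendieckTopology.transitive _ hgo _ fun Z' h' hh' => ?_
    obtain ⟨_, r, _, ⟨⟩, rfl⟩ := hh'
    rw [Sieve.pullback_comp]
    refine GrothendieckTopology.pullback_stable _ r (hZ _ ?_)
    rw [GrothendieckTopology.mem_over_iff]
    have hcov' : Sieve.generate (Presieve.ofArrows F'.X ι) ∈ Scheme.zariskiTopology Y' := by
      refine Precoverage.generate_mem_toGrothendieck ?_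
      show _ ∈ Scheme.precoverage @IsOpenImmersion Y'
      rw [Scheme.ofArrows_mem_precoverage_iff]
      exact ⟨fun y => hcov y, ho⟩
    refine GrothendieckTopology.superset_covering _ ?_ hcov'
    rw [Sieve.generate_le_iff]
    intro Z'' k hk
    obtain ⟨j⟩ := hk
    rw [Sieve.overEquiv_iff]
    simp only [Sieve.pullback_apply]
    rw [Sieve.overEquiv_symm_iff, Sieve.pullback_apply]
    obtain ⟨i, m, hm⟩ := hR' j
    refine ⟨E.X i, m, E.f i, ⟨i⟩, ?_⟩
    show m ≫ E.f i = ((ι j ≫ g) ≫ a.left) ≫ g₀
    rw [hι, hm, Category.assoc]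

theorem isSheaf_Jph : Presheaf.IsSheaf (HTop.Jph S) (bigSh F).obj := by
  rw [Presheaf.isSheaf_iff_isSheaf_forget _ _ (forget AddCommGrpCat.{u + 1}), isSheaf_iff_isSheaf_of_type]
  exact isSheaf_Jph_of _ (isSheaf_zariski F) fun U V f _ hf hs =>
    isSheafFor_singleton F f (isUnivSubmersive_of_isProper f.left)

theorem isSheaf_Jh : Presheaf.IsSheaf (HTop.Jh S) (bigSh F).obj := by
  rw [Presheaf.isSheaf_iff_isSheaf_forget _ _ (forget AddCommGrpCat.{u + 1}), isSheaf_iff_isSheaf_of_type]
  exact (Groth.Agent.S8981.result S _).2 ⟨isSheaf_zariski F, fun U V f _ hf hs _ =>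
    isSheafFor_singleton F f (isUnivSubmersive_of_isProper f.left)⟩

end Groth.Agent.H15Site.HPhEt
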