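import Groth.Agent.H15Site.FppfEt.ProperPushREt
import Groth.Agent.H17.FLI.CompDeg
import Groth.Agent.S14622

/-!
# Derived vanishing sections along proper surjective morphisms, on the big étale site
-/

set_option autoImplicit false
set_option linter.style.haveILetI false
set_option linter.unusedSectionVars false
set_option backward.isDefEq.respectTransparency false
set_option backward.isDefEq.respectTransparency.types false

universe u

open CategoryTheory CategoryTheory.Limits AlgebraicGeometry Opposite
open scoped Groth.Agent.H18Et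

namespace Groth.Agent.H15Site.HPhEt

open Groth.Agent.H15Site.IntDesc (bigSh)
open Groth.Agent.H15Site.FppfEt
open Groth.Agent.H15Site.Shriek (StalkBC isTorsion_of_epi' exists_mono_torsion_Rpush_acyclic)

section Van

variable {S : Scheme.{u}} {U Y : Over S} (g : Y ⟶ U)

/-- Sections vanishing after restriction along `g`. -/
noncomputable def vanAt : BigSite.Ab Scheme.etalePrecoverage S ⥤ AddCommGrpCat.{u + 1} where
  obj A := AddCommGrpCat.of (A.obj.map g.op).hom.ker
  map {A B} φ := AddCommGrpCat.ofHom (AddMonoidHom.mk'
    (fun x => (⟨φ.hom.app (op U) x.1, (ConcreteCategory.congr_hom (φ.hom.naturality g.op) x.1).symm.trans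
      ((congrArg (φ.hom.app (op Y)) x.2).trans (map_zero _))⟩ : (B.obj.map g.op).hom.ker))
    fun a b => Subtype.ext (map_add (φ.hom.app (op U)).hom a.1 b.1))
  map_id A := by ext x; rfl
  map_comp φ ψ := by ext x; rfl

instance vanAt_additive : (vanAt g).Additive where
  map_add {A B φ ψ} := by ext x; rfl

instance vanAt_preservesFiniteLimits : PreservesFiniteLimits (vanAt g) := by
  refine ((vanAt g).preservesFiniteLimits_tfae.out 0 3 rfl rfl).1 fun T hT => ?_
  haveI := hT.mono_f
  refine ⟨?_, ?_⟩
  · rw [ShortComplex.ab_exact_iff]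
    intro x hx
    obtain ⟨y, hy⟩ := Sections.exists_app_eq hT.exact U x.1 (congrArg Subtype.val hx)
    refine ⟨⟨y, Sections.injective_app T.f Y ?_⟩, Subtype.ext hy⟩
    rw [map_zero]
    exact (ConcreteCategory.congr_hom (T.f.hom.naturality g.op) y).trans
      ((congrArg (T.X₂.obj.map g.op) hy).trans x.2)
  · rw [AddCommGrpCat.mono_iff_injective]
    exact fun a b h => Subtype.ext (Sections.injective_app T.f U (congrArg Subtype.val h))

end Van

section Global

variable {X S : Scheme.{u}} (f : X ⟶ S)

/-- `X` over `S`. -/
noncomputable abbrev structMap : Over.mk f ⟶ Over.mk (𝟙 S) := Over.homMk f (Category.comp_id f)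

/-- Sections of direct images have no vanishing part. -/
theorem isZero_vanAt_pushBig (Q : BigSite.Ab Scheme.etalePrecoverage X) :
    IsZero ((vanAt (structMap f)).obj ((BigSite.pushBig Scheme.etalePrecoverage f AddCommGrpCat.{u + 1}).obj Q)) := by
  haveI : Subsingleton ((vanAt (structMap f)).obj
      ((BigSite.pushBig Scheme.etalePrecoverage f AddCommGrpCat.{u + 1}).obj Q)) := by
    refine subsingleton_of_forall_eq 0 fun x => Subtype.ext ?_
    let U : Over S := Over.mk (𝟙 S)
    let s : (Over.pullback f).obj U ⟶ (Over.pullback f).obj (Over.mk f) :=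
      Over.homMk (pullback.lift (pullback.snd (𝟙 S) f) (pullback.snd (𝟙 S) f) rfl) (pullback.lift_snd _ _ _)
    have hs : s ≫ (Over.pullback f).map (structMap f) = 𝟙 _ := by
      refine Over.OverMorphism.ext (pullback.hom_ext ?_ ?_)
      · refine (Category.assoc _ _ _).trans ((congrArg (_ ≫ ·) (pullback.lift_fst _ _ _)).trans ?_)
        refine (Category.assoc _ _ _).symm.trans ((congrArg (· ≫ f) (pullback.lift_fst _ _ _)).trans ?_)
        exact pullback.condition.symm.trans ((Category.comp_id _).trans (Category.id_comp _).symm)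
      · refine (Category.assoc _ _ _).trans ((congrArg (_ ≫ ·) (pullback.lift_snd _ _ _)).trans ?_)
        exact (pullback.lift_snd _ _ _).trans (Category.id_comp _).symm
    refine ((Sections.map_map Q s _ x.1).trans ((Sections.map_congr Q hs x.1).trans
      (ConcreteCategory.congr_hom (Q.obj.map_id _) x.1))).symm.trans ?_
    exact (congrArg _ x.2).trans (map_zero _)
  exact AddCommGrpCat.isZero_of_subsingleton _

variable [IsProper f]

/-- The derived vanishing sections of acyclic direct images vanish. -/
theorem isZero_derived_vanAt_push (hbc : StalkBC.{u}) (G : EtCoh.Ab X) (hG : EtCoh.IsTorsion G)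
    (hz : ∀ q, 0 < q → IsZero ((EtCoh.Rpush f q).obj G)) (q : ℕ) :
    IsZero (((vanAt (structMap f)).rightDerived q).obj
      ((BigSite.piEtPull Scheme.etalePrecoverage S).obj ((EtCoh.push f).obj G))) := by
  let P := BigSite.pushBig Scheme.etalePrecoverage f AddCommGrpCat.{u + 1}
  haveI : P.IsRightAdjoint := ⟨_, ⟨BigSite.bigAdj Scheme.etalePrecoverage f _⟩⟩
  haveI : PreservesFiniteLimits P := inferInstance
  haveI := (H13Desc.BigExact.pullBig_exact Scheme.etalePrecoverage f).1
  haveI : (BigSite.pullBig Scheme.etalePrecoverage f AddCommGrpCat.{u + 1}).PreservesMonomorphisms :=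
    preservesMonomorphisms_of_preservesLimitsOfShape _
  obtain ⟨e⟩ := H17.FLI.CompDeg.nonempty_rightDerived_comp P (vanAt (structMap f))
    (fun I hI => Injective.injective_of_adjoint (BigSite.bigAdj Scheme.etalePrecoverage f _) I) (bigSh G) 0
    (fun i hi => isZero_RpushBigEt_of_acyclic f hbc G hG i (hz i (Nat.pos_of_ne_zero hi))) q
  let R := injectiveResolution (bigSh G)
  have h0 : IsZero (((P ⋙ vanAt (structMap f)).rightDerived (q + 0)).obj (bigSh G)) :=
    ((HomologicalComplex.exactAt_iff_isZero_homology _ _).1
      (ShortComplex.exact_of_isZero_X₂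
        ((((P ⋙ vanAt (structMap f)).mapHomologicalComplex (ComplexShape.up ℕ)).obj R.cocomplex).sc (q + 0))
        (isZero_vanAt_pushBig f (R.cocomplex.X (q + 0))))).of_iso
      (R.isoRightDerivedObj (P ⋙ vanAt (structMap f)) (q + 0))
  haveI := isIso_α_of_isProper f G
  exact (h0.of_iso e.symm).of_iso (((vanAt (structMap f)).rightDerived q).mapIso
    (asIso (α f G) ≪≫ ((Functor.rightDerivedZeroIsoSelf P).app (bigSh G)).symm))

/-- **The derived vanishing sections of torsion sheaves vanish.** -/
theorem isZero_derived_vanAt [Surjective f] (hbc : StalkBC.{u}) :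
    ∀ (q : ℕ) (F : EtCoh.Ab S), EtCoh.IsTorsion F →
      IsZero (((vanAt (structMap f)).rightDerived q).obj (bigSh F)) := by
  let pS := BigSite.piEtPull Scheme.etalePrecoverage S
  let V := vanAt (structMap f)
  haveI : pS.IsLeftAdjoint := ⟨_, ⟨BigSite.piEtAdj Scheme.etalePrecoverage S⟩⟩
  haveI : PreservesFiniteLimits pS := H13Desc.BigExact.preservesFiniteLimits_piEtPull _ S
  haveI : PreservesFiniteColimits pS := inferInstance
  haveI : pS.Additive := (BigSite.piEtAdj Scheme.etalePrecoverage S).left_adjoint_additive
  haveI : PreservesFiniteLimits (EtCoh.push f) :=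
    haveI : (EtCoh.push f).IsRightAdjoint := ⟨_, ⟨EtCoh.pullPushAdj f⟩⟩
    inferInstance
  have step : ∀ F : EtCoh.Ab S, EtCoh.IsTorsion F →
      ∃ (T : ShortComplex (EtCoh.Ab S)) (_ : T.ShortExact), T.X₁ = F ∧ EtCoh.IsTorsion T.X₃ ∧
        ∀ i, IsZero ((V.rightDerived i).obj (pS.obj T.X₂)) := by
    intro F hF
    obtain ⟨G, ι, hι, hG, hz⟩ :=
      exists_mono_torsion_Rpush_acyclic f _ (H18Et.Coh.isTorsion_pull f F hF)
    haveI := S14622.result f F
    let m : F ⟶ (EtCoh.push f).obj G := (EtCoh.pullPushAdj f).unit.app F ≫ (EtCoh.push f).map ι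
    haveI : Mono m := mono_comp _ _
    have ht : EtCoh.IsTorsion ((EtCoh.push f).obj G) := H18Et.Coh.isTorsion_of_iso
      ((Functor.rightDerivedZeroIsoSelf (EtCoh.push f)).app G) (H18Et.Coh.isTorsion_Rpush f G hG 0)
    exact ⟨ShortComplex.mk m (cokernel.π m) (cokernel.condition m),
      { exact := ShortComplex.exact_of_g_is_cokernel _ (cokernelIsCokernel m) }, rfl,
      isTorsion_of_epi' (cokernel.π m) ht, fun i => isZero_derived_vanAt_push f hbc G hG hz i⟩
  have hself : ∀ A, IsZero ((V.rightDerived 0).obj A) → IsZero (V.obj A) :=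
    fun A h => h.of_iso ((Functor.rightDerivedZeroIsoSelf V).app A).symm
  intro q
  induction q using Nat.strong_induction_on with
  | _ q ih =>
    intro F hF
    obtain ⟨T, hT, rfl, h3, h2⟩ := step F hF
    have hT' := hT.map_of_exact pS
    haveI : Mono (pS.map T.f) := hT'.mono_f
    haveI : Mono (V.map (pS.map T.f)) := inferInstance
    have hacy : H16Derived.AcyclicLES.IsAcyclic V (pS.obj T.X₂) := fun i _ => h2 i
    match q, ih with
    | 0, _ =>
      exact ((hself _ (h2 0)).of_mono (V.map (pS.map T.f))).of_iso
        ((Functor.rightDerivedZeroIsoSelf V).app _)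
    | 1, ih =>
      obtain ⟨e⟩ := H10Coh.nonempty_rightDerived_one V hT' hacy
      haveI : Epi (V.map (T.map pS).g) :=
        ⟨fun a b _ => (hself _ (ih 0 (by omega) T.X₃ h3)).eq_of_src a b⟩
      exact (isZero_cokernel_of_epi _).of_iso e
    | m + 2, ih =>
      obtain ⟨e⟩ := H10Coh.nonempty_rightDerived_shift V hT' hacy m
      exact (ih (m + 1) (by omega) T.X₃ h3).of_iso e

end Global

section Relative

variable {S : Scheme.{u}} {U Y : Over S} (g : Y ⟶ U)

/-- `U` as the image of the final object over itself. -/
noncomputable def topU : (Over.map U.hom).obj (Over.mk (𝟙 U.left)) ≅ U :=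
  Over.isoMk (Iso.refl _) (by show 𝟙 _ ≫ U.hom = 𝟙 _ ≫ U.hom; rfl)

/-- `Y` as an object over `U`. -/
noncomputable def topY : (Over.map U.hom).obj (Over.mk g.left) ≅ Y :=
  Over.isoMk (Iso.refl _) (by show 𝟙 _ ≫ Y.hom = g.left ≫ U.hom; rw [Category.id_comp, Over.w g])

theorem top_comm : (Over.map U.hom).map (structMap g.left) ≫ topU.hom = (topY g).hom ≫ g :=
  Over.OverMorphism.ext ((Category.comp_id _).trans (Category.id_comp _).symm)

/-- Vanishing sections only depend on the base change to `U`. -/
noncomputable def vanAtIso :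
    BigSite.pullBig Scheme.etalePrecoverage U.hom AddCommGrpCat.{u + 1} ⋙ vanAt (structMap g.left) ≅ vanAt g :=
  NatIso.ofComponents (fun A =>
    { hom := AddCommGrpCat.ofHom (AddMonoidHom.mk'
        (fun x => (⟨A.obj.map topU.inv.op x.1, by
          have h : A.obj.map ((Over.map U.hom).map (structMap g.left)).op x.1 = 0 := x.2
          have e : g ≫ topU.inv = (topY g).inv ≫ (Over.map U.hom).map (structMap g.left) := by
            rw [Iso.eq_inv_comp, ← Category.assoc, Iso.comp_inv_eq, top_comm]
          show A.obj.map g.op (A.obj.map topU.inv.op x.1) = 0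
          exact (Sections.map_map A _ _ _).trans ((Sections.map_congr A e _).trans
            ((Sections.map_map A _ _ _).symm.trans ((congrArg _ h).trans (map_zero _))))⟩ : (A.obj.map g.op).hom.ker))
        fun a b => Subtype.ext (map_add _ a.1 b.1))
      inv := AddCommGrpCat.ofHom (AddMonoidHom.mk'
        (fun x => (⟨A.obj.map topU.hom.op x.1, by
          have h : A.obj.map g.op x.1 = 0 := x.2
          show A.obj.map ((Over.map U.hom).map (structMap g.left)).op (A.obj.map topU.hom.op x.1) = 0
          exact (Sections.map_map A _ _ _).trans ((Sections.map_congr A (top_comm g) _).trans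
            ((Sections.map_map A _ _ _).symm.trans ((congrArg _ h).trans (map_zero _))))⟩ :
            (((BigSite.pullBig Scheme.etalePrecoverage U.hom AddCommGrpCat.{u + 1}).obj A).obj.map
              (structMap g.left).op).hom.ker))
        fun a b => Subtype.ext (map_add _ a.1 b.1))
      hom_inv_id := by
        ext x
        refine Subtype.ext ?_
        show A.obj.map topU.hom.op (A.obj.map topU.inv.op x.1) = x.1
        exact (Sections.map_map A _ _ _).trans ((Sections.map_congr A topU.hom_inv_id _).trans
          (ConcreteCategory.congr_hom (A.obj.map_id _) _))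
      inv_hom_id := by
        ext x
        refine Subtype.ext ?_
        show A.obj.map topU.inv.op (A.obj.map topU.hom.op x.1) = x.1
        exact (Sections.map_map A _ _ _).trans ((Sections.map_congr A topU.inv_hom_id _).trans
          (ConcreteCategory.congr_hom (A.obj.map_id _) _)) })
    fun {A B} φ => by
      ext x
      exact Subtype.ext (ConcreteCategory.congr_hom (φ.hom.naturality topU.inv.op) x.1).symm

/-- **Derived descent along a proper surjective morphism of objects.** -/
theorem isZero_derived_vanAt_rel [IsProper g.left] [Surjective g.left] (hbc : StalkBC.{u})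
    (F : EtCoh.Ab S) (hF : EtCoh.IsTorsion F) (q : ℕ) :
    IsZero (((vanAt g).rightDerived q).obj (bigSh F)) := by
  let R := BigSite.pullBig Scheme.etalePrecoverage U.hom AddCommGrpCat.{u + 1}
  haveI := (H13Desc.BigExact.pullBig_exact Scheme.etalePrecoverage U.hom).1
  haveI := (H13Desc.BigExact.pullBig_exact Scheme.etalePrecoverage U.hom).2
  haveI : R.Additive := Functor.additive_of_preserves_binary_products _
  let I := injectiveResolution (bigSh F)
  refine (((isZero_derived_vanAt g.left hbc q _ (H18Et.Coh.isTorsion_pull U.hom F hF)).of_iso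
    (((vanAt (structMap g.left)).rightDerived q).mapIso ((H13Desc.BigRes.piPullIso U.hom).app F))).of_iso
    ((RDSeq.precompIso R (vanAt (structMap g.left))
      (fun J _ => H13Desc.BigExact.injective_pullBig Scheme.etalePrecoverage U.hom J) q).app (bigSh F))).of_iso
    (I.isoRightDerivedObj _ q ≪≫ (HomologicalComplex.homologyFunctor _ _ q).mapIso
      ((NatIso.mapHomologicalComplex (vanAtIso g) (ComplexShape.up ℕ)).app I.cocomplex).symm ≪≫
      (I.isoRightDerivedObj _ q).symm)

end Relative

end Groth.Agent.H15Site.HPhEt
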